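/-
Flatness over a base, read on sections over affine opens (helper28).
-/
import Groth.Agent.FlatOpen.Scheme
import Groth.Agent.AssSch.Basic
import Groth.Agent.FlatMor.FlatAtBC

set_option autoImplicit false
set_option linter.style.haveILetI false

universe u

open CategoryTheory AlgebraicGeometry TopologicalSpace Opposite
open Groth.Agent.AssSch.Stalk

namespace Groth.Agent.FlatSect

variable {X Y : Scheme.{u}} (f : X ⟶ Y) {V : Y.Opens} (hV : IsAffineOpen V) {U : X.Opens}
  (hU : IsAffineOpen U) (e : U ≤ f ⁻¹ᵁ V) (F : X.Modules) [F.IsQuasicoherent]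

include hV hU in
/-- A quasi-coherent module flat over the base has flat sections on affine charts. -/
theorem flat_sections_of_isFlatOverAt (h : ∀ x ∈ U, FlatMod.IsFlatOverAt f F x) :
    letI : Module Γ(Y, V) Γ(F, U) := Module.compHom _ (f.appLE V U e).hom
    Module.Flat Γ(Y, V) Γ(F, U) := by
  letI := (f.appLE V U e).hom.toAlgebra
  letI : Module Γ(Y, V) Γ(F, U) := Module.compHom _ (f.appLE V U e).hom
  haveI : IsScalarTower Γ(Y, V) Γ(X, U) Γ(F, U) := IsScalarTower.of_algebraMap_smul fun _ _ => rfl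
  refine Module.flat_of_isLocalized_maximal Γ(X, U) _ (fun Q _ => LocalizedModule Q.primeCompl Γ(F, U))
    (fun Q _ => LocalizedModule.mkLinearMap Q.primeCompl _) fun Q hQ => ?_
  obtain ⟨x, hx, rfl⟩ := AssSch.Basic.exists_point hU Q
  exact (FlatOpen.Scheme.isFlatOverAt_iff f hV hU e x hx F).1 (h x hx)

include hV hU in
/-- Flat sections on an affine chart give flatness at every point of the chart. -/
theorem isFlatOverAt_of_flat_sections
    (h : letI : Module Γ(Y, V) Γ(F, U) := Module.compHom _ (f.appLE V U e).hom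
      Module.Flat Γ(Y, V) Γ(F, U)) (x : X) (hx : x ∈ U) :
    FlatMod.IsFlatOverAt f F x := by
  letI := (f.appLE V U e).hom.toAlgebra
  letI : Module Γ(Y, V) Γ(F, U) := Module.compHom _ (f.appLE V U e).hom
  haveI : IsScalarTower Γ(Y, V) Γ(X, U) Γ(F, U) := IsScalarTower.of_algebraMap_smul fun _ _ => rfl
  haveI : Module.Flat Γ(Y, V) Γ(F, U) := h
  exact (FlatOpen.Scheme.isFlatOverAt_iff f hV hU e x hx F).2
    (FlatMor.FlatAtBC.flat_localizedModule Γ(Y, V) (primeOf hU x hx).primeCompl Γ(F, U))

/-- Charts exist around every point. -/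
theorem exists_chart (x : X) : ∃ (V : Y.Opens) (U : X.Opens),
    IsAffineOpen V ∧ IsAffineOpen U ∧ U ≤ f ⁻¹ᵁ V ∧ x ∈ U := by
  obtain ⟨V, hV, hxV, -⟩ := exists_isAffineOpen_mem_and_subset (U := (⊤ : Y.Opens)) (x := f.base x) trivial
  obtain ⟨U, hU, hxU, hUV⟩ := exists_isAffineOpen_mem_and_subset (U := f ⁻¹ᵁ V) (x := x) hxV
  exact ⟨V, U, hV, hU, hUV, hxU⟩

/-- Flatness of a module over a ring isomorphic to the base ring. -/
theorem flat_iff_of_ringEquiv {A B : Type*} [CommRing A] [CommRing B] (N : Type*) [AddCommGroup N]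
    [Module A N] [Module B N] (σ : A ≃+* B) (h : ∀ (a : A) (m : N), σ a • m = a • m) :
    Module.Flat A N ↔ Module.Flat B N := by
  letI : Algebra A B := σ.toRingHom.toAlgebra
  haveI : IsScalarTower A B N := IsScalarTower.of_algebraMap_smul h
  have hbij : Function.Bijective (algebraMap A B) := σ.bijective
  haveI : IsLocalization (⊥ : Submonoid A) A :=
    IsLocalization.at_units fun x hx => by rw [Submonoid.mem_bot.mp hx]; exact isUnit_one
  haveI : IsLocalization (⊥ : Submonoid A) B :=
    IsLocalization.isLocalization_of_algEquiv ⊥ (AlgEquiv.ofBijective (Algebra.ofId A B) hbij)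
  exact (Module.flat_iff_of_isLocalization B (⊥ : Submonoid A) (M := N)).symm

end Groth.Agent.FlatSect
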