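/-
Generic flatness along a closed subscheme of finite type over the base (helper28).
-/
import Groth.Agent.FlatMisc.GenericFree
import Groth.Agent.FlatOpen.GenericFlat
import Groth.Agent.LocFlat.Basic
import Mathlib.RingTheory.Filtration
import Mathlib.RingTheory.ReesAlgebra

set_option autoImplicit false
set_option linter.style.haveILetI false

universe u

open TensorProduct Function

namespace Groth.Agent.FlatSect

/-- An extension of flat modules is flat. -/
theorem flat_of_ext {R : Type u} [CommRing R] {A B C : Type u} [AddCommGroup A] [Module R A]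
    [AddCommGroup B] [Module R B] [AddCommGroup C] [Module R C] [Module.Flat R A] [Module.Flat R C]
    (f : A →ₗ[R] B) (g : B →ₗ[R] C) (hfg : Exact f g) (hg : Surjective g) (hf : Injective f) :
    Module.Flat R B := by
  rw [Module.Flat.iff_rTensor_injective']
  intro J
  rw [injective_iff_map_eq_zero]
  intro x hx
  have hC : g.lTensor J x = 0 := by
    apply Module.Flat.rTensor_preserves_injective_linearMap (M := C) J.subtype J.injective_subtype
    rw [map_zero, ← LinearMap.comp_apply, LinearMap.rTensor_comp_lTensor,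
      ← LinearMap.lTensor_comp_rTensor, LinearMap.comp_apply, hx, map_zero]
  obtain ⟨y, rfl⟩ := (lTensor_exact J hfg hg x).mp hC
  have h0 : J.subtype.rTensor A y = 0 := by
    apply Groth.Agent.LocFlat.lTensor_injective_of_flat_coker f g hfg hg hf R
    rw [map_zero, ← LinearMap.comp_apply, LinearMap.lTensor_comp_rTensor,
      ← LinearMap.rTensor_comp_lTensor, LinearMap.comp_apply, hx]
  rw [Module.Flat.rTensor_preserves_injective_linearMap (M := A) J.subtype J.injective_subtype
    (h0.trans (map_zero _).symm), map_zero]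

/-- A finite module over a Noetherian algebra whose infinitesimal neighbourhoods along an ideal in
the radical are flat over the base is flat. -/
theorem flat_of_forall_quot {R S : Type u} [CommRing R] [CommRing S] [Algebra R S]
    [IsNoetherianRing R] [IsNoetherianRing S] (L : Type u) [AddCommGroup L] [Module R L] [Module S L]
    [IsScalarTower R S L] [Module.Finite S L] (J : Ideal S) (hJ : J ≤ Ideal.jacobson ⊥)
    (h : ∀ n : ℕ, ∃ (F : Type u) (_ : AddCommGroup F) (_ : Module R F) (_ : Module.Flat R F)
      (g : L →ₗ[R] F), Surjective g ∧ ∀ x, g x = 0 → x ∈ (J ^ n • ⊤ : Submodule S L)) :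
    Module.Flat R L := by
  rw [Module.Flat.iff_lTensor_injective]
  intro a ha
  haveI : Module.Finite R a := Module.Finite.iff_fg.mpr ha
  haveI : Module.Finite S (L ⊗[R] a) := Groth.Agent.LocFlat.finite_tensor L a
  rw [injective_iff_map_eq_zero]
  intro z hz
  rw [← Submodule.mem_bot S, ← Ideal.iInf_pow_smul_eq_bot_of_le_jacobson (M := L ⊗[R] a) J hJ,
    Submodule.mem_iInf]
  intro n
  obtain ⟨F, _, _, _, g, hg, hker⟩ := h n
  have h1 : g.rTensor a z = 0 := by
    apply Module.Flat.lTensor_preserves_injective_linearMap (M := F) a.subtype a.injective_subtype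
    rw [map_zero, ← LinearMap.comp_apply, LinearMap.lTensor_comp_rTensor,
      ← LinearMap.rTensor_comp_lTensor, LinearMap.comp_apply, hz, map_zero]
  obtain ⟨y, rfl⟩ := (rTensor_exact a (LinearMap.exact_subtype_ker_map g) hg z).mp h1
  clear hz h1
  induction y with
  | zero => simp
  | add y w hy hw => rw [map_add]; exact add_mem hy hw
  | tmul k i =>
    rw [LinearMap.rTensor_tmul, Submodule.subtype_apply]
    refine Submodule.smul_induction_on (p := fun x : L => x ⊗ₜ[R] i ∈ (J ^ n • ⊤ : Submodule S (L ⊗[R] a)))
      (hker k.1 k.2) (fun s hs l _ => ?_) (fun x x' hx hx' => ?_)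
    · rw [← TensorProduct.smul_tmul']
      exact Submodule.smul_mem_smul hs trivial
    · rw [TensorProduct.add_tmul]
      exact add_mem hx hx'

variable {R B M : Type u} [CommRing R] [CommRing B] [Algebra R B] (I : Ideal B)
  [AddCommGroup M] [Module B M] [Module R M] [IsScalarTower R B M]

/-- The graded piece `IⁿM / Iⁿ⁺¹M`. -/
abbrev piece (M : Type u) [AddCommGroup M] [Module B M] (n : ℕ) : Type u :=
  (I ^ n • ⊤ : Submodule B M) ⧸ Submodule.comap (I ^ n • ⊤ : Submodule B M).subtype (I ^ (n + 1) • ⊤)

/-- Generic freeness modulo `I` of a graded-like module over a finite type algebra, with the pieces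
`IⁿM / Iⁿ⁺¹M` as retracts. -/
theorem exists_freeAt_retract_of_model [IsDomain R] [Algebra.FiniteType R (B ⧸ I)]
    (A : Type u) [CommRing A] [Algebra B A] [Algebra R A] [IsScalarTower R B A] [Algebra.FiniteType B A]
    (P : Type u) [AddCommGroup P] [Module A P] [Module B P] [Module R P] [IsScalarTower B A P]
    [IsScalarTower R A P] [IsScalarTower R B P] [Module.Finite A P]
    (i : ∀ n, (I ^ n • ⊤ : Submodule B M) →ₗ[B] P) (p : ∀ n, P →ₗ[B] (I ^ n • ⊤ : Submodule B M))
    (hip : ∀ n x, p n (i n x) = x) :
    ∃ (Q : Type u) (_ : AddCommGroup Q) (_ : Module B Q) (_ : Module R Q) (_ : IsScalarTower R B Q)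
      (f : R), f ≠ 0 ∧ FlatMisc.GenericFree.FreeAt f Q ∧
      ∀ n, ∃ (ι : piece I M n →ₗ[B] Q) (π : Q →ₗ[B] piece I M n), π ∘ₗ ι = LinearMap.id := by
  classical
  let J : Ideal A := I.map (algebraMap B A)
  let T := A ⧸ J
  let Q := P ⧸ (J • ⊤ : Submodule A P)
  letI : Algebra (B ⧸ I) T := (Ideal.Quotient.lift I (algebraMap B T) fun b hb => by
    rw [IsScalarTower.algebraMap_apply B A T]
    exact Ideal.Quotient.eq_zero_iff_mem.mpr (Ideal.mem_map_of_mem _ hb)).toAlgebra
  haveI : IsScalarTower B (B ⧸ I) T := IsScalarTower.of_algebraMap_eq fun _ => rfl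
  haveI : IsScalarTower R (B ⧸ I) T := IsScalarTower.of_algebraMap_eq fun r => by
    rw [IsScalarTower.algebraMap_apply R B (B ⧸ I), IsScalarTower.algebraMap_apply R B T]
    rfl
  haveI : Algebra.FiniteType B T :=
    Algebra.FiniteType.of_surjective (Ideal.Quotient.mkₐ B J) (Ideal.Quotient.mkₐ_surjective B J)
  haveI : Algebra.FiniteType (B ⧸ I) T := Algebra.FiniteType.of_restrictScalars_finiteType B (B ⧸ I) T
  haveI : Algebra.FiniteType R T := Algebra.FiniteType.trans (S := B ⧸ I) inferInstance inferInstance
  haveI : IsScalarTower R T Q := IsScalarTower.of_algebraMap_smul fun r x => by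
    rw [IsScalarTower.algebraMap_apply R A T]
    exact (algebraMap_smul T _ x).trans (algebraMap_smul A r x)
  haveI : Module.Finite T Q := Module.Finite.of_restrictScalars_finite A T Q
  obtain ⟨f, -, hf, hfree⟩ := FlatMisc.GenericFree.genFree (R := R) T Q 1 one_ne_zero
  refine ⟨Q, inferInstance, inferInstance, inferInstance, inferInstance, f, hf, hfree, fun n => ?_⟩
  let q : P →ₗ[B] Q := (J • ⊤ : Submodule A P).mkQ.restrictScalars B
  have hι : Submodule.comap (I ^ n • ⊤ : Submodule B M).subtype (I ^ (n + 1) • ⊤) ≤ LinearMap.ker (q ∘ₗ i n) := by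
    intro x hx
    rw [Submodule.mem_comap, Submodule.subtype_apply, pow_succ', mul_smul] at hx
    have key : ∀ y ∈ I • (I ^ n • ⊤ : Submodule B M), ∃ hy : y ∈ (I ^ n • ⊤ : Submodule B M),
        i n ⟨y, hy⟩ ∈ (J • ⊤ : Submodule A P) := by
      intro y hy
      refine Submodule.smul_induction_on hy (fun a ha z hz => ?_) (fun y z hy hz => ?_)
      · refine ⟨Submodule.smul_mem _ a hz, ?_⟩
        have h2 := Submodule.smul_mem_smul (N := (⊤ : Submodule A P))
          (Ideal.mem_map_of_mem (algebraMap B A) ha : algebraMap B A a ∈ J) (Submodule.mem_top (x := i n ⟨z, hz⟩))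
        rw [algebraMap_smul, ← map_smul] at h2
        exact h2
      · exact ⟨add_mem hy.1 hz.1, (map_add (i n) ⟨y, hy.1⟩ ⟨z, hz.1⟩).symm ▸ add_mem hy.2 hz.2⟩
    exact (Submodule.Quotient.mk_eq_zero _).mpr (key x.1 hx).2
  let π₁ : P →ₗ[B] piece I M n := Submodule.mkQ _ ∘ₗ p n
  have hπ : ∀ r ∈ J, ∀ w : P, π₁ (r • w) = 0 := by
    intro r hr
    induction hr using Submodule.span_induction with
    | mem r hr =>
      obtain ⟨b, hb, rfl⟩ := hr
      intro w
      rw [algebraMap_smul, map_smul]
      obtain ⟨⟨y, hy⟩, e⟩ := Submodule.mkQ_surjective _ (π₁ w)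
      rw [← e, ← map_smul]
      refine (Submodule.Quotient.mk_eq_zero _).mpr ?_
      rw [Submodule.mem_comap, Submodule.subtype_apply, pow_succ', mul_smul]
      exact Submodule.smul_mem_smul hb hy
    | zero => intro w; rw [zero_smul, map_zero]
    | add r s _ _ hr hs => intro w; rw [add_smul, map_add, hr, hs, add_zero]
    | smul c r _ hr => intro w; rw [smul_eq_mul, mul_comm, mul_smul]; exact hr _
  have hπ' : ∀ x ∈ (J • ⊤ : Submodule A P), π₁ x = 0 := fun x hx =>
    Submodule.smul_induction_on (p := fun y => π₁ y = 0) hx (fun r hr w _ => hπ r hr w)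
      (fun x y hx hy => by rw [map_add, hx, hy, add_zero])
  let π₂ : Q →+ piece I M n := QuotientAddGroup.lift (J • ⊤ : Submodule A P).toAddSubgroup π₁.toAddMonoidHom
    fun x hx => hπ' x hx
  let π₃ : Q →ₗ[B] piece I M n :=
    { toFun := π₂
      map_add' := map_add π₂
      map_smul' := fun b y => by
        obtain ⟨y, rfl⟩ := Submodule.Quotient.mk_surjective _ y
        exact map_smul π₁ b y }
  let ι₃ : piece I M n →ₗ[B] Q := Submodule.liftQ _ (q ∘ₗ i n) hι
  have hcomp : π₃ ∘ₗ ι₃ = LinearMap.id := by
    refine Submodule.linearMap_qext _ (LinearMap.ext fun x => ?_)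
    show Submodule.mkQ _ (p n (i n x)) = Submodule.mkQ _ x
    rw [hip]
  exact ⟨ι₃, π₃, hcomp⟩

/-- Generic freeness of the associated graded module, in the form of retracts. -/
theorem exists_freeAt_retract [IsDomain R] [IsNoetherianRing B] [Algebra.FiniteType R (B ⧸ I)]
    [Module.Finite B M] :
    ∃ (Q : Type u) (_ : AddCommGroup Q) (_ : Module B Q) (_ : Module R Q) (_ : IsScalarTower R B Q)
      (f : R), f ≠ 0 ∧ FlatMisc.GenericFree.FreeAt f Q ∧
      ∀ n, ∃ (ι : piece I M n →ₗ[B] Q) (π : Q →ₗ[B] piece I M n), π ∘ₗ ι = LinearMap.id := by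
  classical
  let F := I.stableFiltration (⊤ : Submodule B M)
  let W := F.submodule
  haveI : Module.Finite (reesAlgebra I) W := Module.Finite.iff_fg.mpr
    ((Ideal.Filtration.submodule_fg_iff_stable F fun _ => IsNoetherian.noetherian _).mpr
      (I.stableFiltration_stable ⊤))
  have hN : ∀ k, F.N k = (I ^ k • ⊤ : Submodule B M) := fun _ => rfl
  have hmem : ∀ (k : ℕ) (x : M), x ∈ (I ^ k • ⊤ : Submodule B M) → PolynomialModule.single B k x ∈ W := by
    intro k x hx j
    rw [PolynomialModule.coeff_single, Finsupp.single_apply, hN]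
    split_ifs with h
    · exact h ▸ hx
    · exact zero_mem _
  let iW : ∀ n, (I ^ n • ⊤ : Submodule B M) →ₗ[B] W := fun n =>
    { toFun := fun x => ⟨PolynomialModule.single B n x.1, hmem n x.1 x.2⟩
      map_add' := fun x y => Subtype.ext (PolynomialModule.single_add n x.1 y.1)
      map_smul' := fun b x => Subtype.ext (PolynomialModule.single_smul n b x.1) }
  let pW : ∀ n, W →ₗ[B] (I ^ n • ⊤ : Submodule B M) := fun n =>
    { toFun := fun w => ⟨w.1.coeff n, w.2 n⟩
      map_add' := fun _ _ => rfl
      map_smul' := fun _ _ => rfl }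
  refine exists_freeAt_retract_of_model I (reesAlgebra I) W iW pW fun n x => ?_
  refine Subtype.ext ?_
  show (PolynomialModule.single B n x.1).coeff n = x.1
  rw [PolynomialModule.coeff_single, Finsupp.single_eq_same]

/-- Generic flatness along a closed subscheme of finite type over the base. -/
theorem exists_flatAt_along [IsNoetherianRing R] [IsDomain R] [IsNoetherianRing B]
    [Algebra.FiniteType R (B ⧸ I)] [Module.Finite B M] :
    ∃ f : R, f ≠ 0 ∧ ∀ (q : Ideal B) [q.IsPrime], I ≤ q → algebraMap R B f ∉ q →
      FlatCA.FlatAt R q M := by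
  classical
  obtain ⟨Q, _, _, _, _, f, hf, hfree, hret⟩ := exists_freeAt_retract (R := R) (M := M) I
  refine ⟨f, hf, fun q _ hIq hfq => ?_⟩
  haveI hQ : Module.Flat R (LocalizedModule q.primeCompl Q) := FlatOpen.GenericFlat.flatAt_of_freeAt hfree q hfq
  let S := q.primeCompl
  have hpiece : ∀ n, Module.Flat R (LocalizedModule S (piece I M n)) := fun n => by
    obtain ⟨ι, π, hπι⟩ := hret n
    refine Module.Flat.of_retract ((LocalizedModule.map S ι).restrictScalars R)
      ((LocalizedModule.map S π).restrictScalars R) (LinearMap.ext fun x => ?_)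
    induction x using LocalizedModule.induction_on with
    | h m s =>
      show LocalizedModule.map S π (LocalizedModule.map S ι (LocalizedModule.mk m s)) = LocalizedModule.mk m s
      rw [LocalizedModule.map_mk, LocalizedModule.map_mk]
      exact congrArg (LocalizedModule.mk · s) (LinearMap.congr_fun hπι m)
  let Mn : ℕ → Type u := fun n => M ⧸ (I ^ n • ⊤ : Submodule B M)
  have hMn : ∀ n, Module.Flat R (LocalizedModule S (Mn n)) := by
    intro n
    induction n with
    | zero =>
      have : Subsingleton (Mn 0) := by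
        rw [Submodule.Quotient.subsingleton_iff, pow_zero, Ideal.one_eq_top, Submodule.top_smul]
      have : Subsingleton (LocalizedModule S (Mn 0)) :=
        LocalizedModule.subsingleton_iff.mpr fun x => ⟨1, S.one_mem, Subsingleton.elim _ _⟩
      infer_instance
    | succ n ih =>
      have hle : (I ^ (n + 1) • ⊤ : Submodule B M) ≤ I ^ n • ⊤ :=
        Submodule.smul_mono (Ideal.pow_le_pow_right (Nat.le_succ n)) le_rfl
      let a : piece I M n →ₗ[B] Mn (n + 1) := Submodule.mapQ _ _ (Submodule.subtype _) le_rfl
      let b : Mn (n + 1) →ₗ[B] Mn n := Submodule.mapQ _ _ LinearMap.id hle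
      have ha : Injective a := by
        rw [← LinearMap.ker_eq_bot, Submodule.ker_mapQ, Submodule.mkQ_map_self]
      have hb : Surjective b := fun z => by
        obtain ⟨x, rfl⟩ := Submodule.Quotient.mk_surjective _ z
        exact ⟨Submodule.Quotient.mk x, rfl⟩
      have hab : Exact a b := fun z => by
        obtain ⟨x, rfl⟩ := Submodule.Quotient.mk_surjective _ z
        constructor
        · intro hx
          exact ⟨Submodule.Quotient.mk ⟨x, (Submodule.Quotient.mk_eq_zero _).mp hx⟩, rfl⟩
        · rintro ⟨y, hy⟩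
          obtain ⟨y, rfl⟩ := Submodule.Quotient.mk_surjective _ y
          rw [← hy]
          exact (Submodule.Quotient.mk_eq_zero _).mpr y.2
      haveI := hpiece n
      haveI := ih
      exact flat_of_ext ((LocalizedModule.map S a).restrictScalars R) ((LocalizedModule.map S b).restrictScalars R)
        (LocalizedModule.map_exact S a b hab)
        (IsLocalizedModule.map_surjective S (LocalizedModule.mkLinearMap _ _) (LocalizedModule.mkLinearMap _ _) b hb)
        (IsLocalizedModule.map_injective S (LocalizedModule.mkLinearMap _ _) (LocalizedModule.mkLinearMap _ _) a ha)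
  let Bq := Localization S
  haveI : IsLocalRing Bq := IsLocalization.AtPrime.isLocalRing Bq q
  show Module.Flat R (LocalizedModule S M)
  refine flat_of_forall_quot (S := Bq) _ (I.map (algebraMap B Bq)) ?_ fun n => ?_
  · rw [IsLocalRing.jacobson_eq_maximalIdeal ⊥ bot_ne_top, Ideal.map_le_iff_le_comap,
      show Ideal.comap (algebraMap B Bq) (IsLocalRing.maximalIdeal Bq) = q from IsLocalization.AtPrime.under_maximalIdeal Bq q]
    exact hIq
  · refine ⟨LocalizedModule S (Mn n), inferInstance, inferInstance, hMn n,
      (LocalizedModule.map S (Submodule.mkQ (I ^ n • ⊤ : Submodule B M))).restrictScalars R,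
      IsLocalizedModule.map_surjective S (LocalizedModule.mkLinearMap _ _) (LocalizedModule.mkLinearMap _ _) _
        (Submodule.mkQ_surjective _), fun x hx => ?_⟩
    obtain ⟨w, rfl⟩ := (LocalizedModule.map_exact S (I ^ n • ⊤ : Submodule B M).subtype _
      (LinearMap.exact_subtype_mkQ _) x).mp hx
    induction w using LocalizedModule.induction_on with
    | h m s =>
      obtain ⟨m, hm⟩ := m
      show LocalizedModule.map S (Submodule.subtype _) (LocalizedModule.mk ⟨m, hm⟩ s) ∈ _
      rw [LocalizedModule.map_mk, Submodule.subtype_apply,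
        show LocalizedModule.mk m s = Localization.mk 1 s • LocalizedModule.mk m 1 by
          rw [LocalizedModule.mk_smul_mk, one_smul, mul_one]]
      refine Submodule.smul_mem _ _ ?_
      rw [← Ideal.map_pow]
      refine Submodule.smul_induction_on (p := fun y => LocalizedModule.mk y (1 : S) ∈ _) hm
        (fun a ha y _ => ?_) (fun y z hy hz => ?_)
      · rw [← LocalizedModule.smul'_mk, ← algebraMap_smul Bq a]
        exact Submodule.smul_mem_smul (Ideal.mem_map_of_mem _ ha) trivial
      · have hadd : LocalizedModule.mk (y + z) (1 : S) = LocalizedModule.mk y 1 + LocalizedModule.mk z 1 :=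
          map_add (LocalizedModule.mkLinearMap S M) y z
        rw [hadd]
        exact add_mem hy hz

end Groth.Agent.FlatSect
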